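import Mathlib.Topology.Sober
import Mathlib.Topology.NoetherianSpace
import Mathlib.Topology.KrullDimension
import Mathlib.Order.KrullDimension

/-!
# Noetherian sober spaces of dimension at most one
-/

set_option autoImplicit false
universe u

open TopologicalSpace

namespace FinPicLib

variable {α : Type u} [TopologicalSpace α]

/-- A point without proper generization. -/
def IsGen (η : α) : Prop := ∀ z, z ⤳ η → z = η

variable [T0Space α] [QuasiSober α]

theorem exists_isGen_specializes (y : α) : ∃ η, IsGen η ∧ η ⤳ y := by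
  have hS : IsIrreducible (irreducibleComponent y) := isIrreducible_irreducibleComponent
  obtain ⟨η, hη⟩ := QuasiSober.sober hS isClosed_irreducibleComponent
  refine ⟨η, fun z hz => ?_, specializes_iff_mem_closure.mpr (hη.def.symm ▸ mem_irreducibleComponent)⟩
  have h1 : irreducibleComponent y ⊆ closure {z} := by
    rw [← hη.def]
    exact closure_minimal (Set.singleton_subset_iff.mpr (specializes_iff_mem_closure.mp hz)) isClosed_closure
  have h2 : closure {z} = irreducibleComponent y :=
    eq_irreducibleComponent isIrreducible_singleton.closure.isPreirreducible h1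
  exact (show IsGenericPoint z (irreducibleComponent y) from h2).eq hη

theorem finite_isGen [NoetherianSpace α] : {η : α | IsGen η}.Finite := by
  classical
  have hgen : ∀ η : {η : α | IsGen η}, IsGenericPoint η.1 (irreducibleComponent η.1) := by
    rintro ⟨η, hη⟩
    obtain ⟨ζ, hζ⟩ := QuasiSober.sober (isIrreducible_irreducibleComponent (x := η)) isClosed_irreducibleComponent
    exact (hη ζ (specializes_iff_mem_closure.mpr (hζ.def.symm ▸ mem_irreducibleComponent))) ▸ hζ
  haveI := (NoetherianSpace.finite_irreducibleComponents (α := α)).to_subtype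
  refine Set.finite_coe_iff.mp (Finite.of_injective
    (fun η => (⟨irreducibleComponent η.1, irreducibleComponent_mem_irreducibleComponents _⟩ : irreducibleComponents α))
    fun a b e => Subtype.ext ((hgen a).eq (show IsGenericPoint b.1 (irreducibleComponent a.1) from (show irreducibleComponent b.1 = irreducibleComponent a.1 from (congrArg Subtype.val e).symm) ▸ hgen b)))

theorem mem_of_dense [NoetherianSpace α] {η : α} (hη : IsGen η) {V : Set α} (hV : IsOpen V) (hd : Dense V) : η ∈ V := by
  let K : Set α := ⋃ ζ ∈ {ζ : α | IsGen ζ ∧ ζ ≠ η}, closure {ζ}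
  have hK : IsClosed K := (finite_isGen.subset fun ζ h => h.1).isClosed_biUnion fun _ _ => isClosed_closure
  have hηK : η ∉ K := fun h => by
    obtain ⟨ζ, hζ, hmem⟩ := Set.mem_iUnion₂.mp h
    exact hζ.2 (hη ζ (specializes_iff_mem_closure.mpr hmem))
  obtain ⟨z, hzK, hzV⟩ := hd.inter_open_nonempty Kᶜ hK.isOpen_compl ⟨η, hηK⟩
  obtain ⟨ζ, hζ, hζz⟩ := exists_isGen_specializes z
  have : ζ = η := by_contra fun hne => hzK (Set.mem_iUnion₂.mpr ⟨ζ, ⟨hζ, hne⟩, specializes_iff_mem_closure.mp hζz⟩)
  exact this ▸ hζz.mem_open hV hzV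

/-- Pairwise disjoint neighbourhoods of the generic points. -/
theorem exists_disjoint_nhds [NoetherianSpace α] :
    ∃ O : {η : α | IsGen η} → Opens α, (∀ η, η.1 ∈ O η) ∧ ∀ a b, a ≠ b → Disjoint (O a : Set α) (O b) := by
  let K : {η : α | IsGen η} → Set α := fun η => ⋃ ζ ∈ {ζ : α | IsGen ζ ∧ ζ ≠ η.1}, closure {ζ}
  have hK : ∀ η, IsClosed (K η) := fun η => (finite_isGen.subset fun ζ h => h.1).isClosed_biUnion fun _ _ => isClosed_closure
  refine ⟨fun η => ⟨(K η)ᶜ, (hK η).isOpen_compl⟩, fun η h => ?_, fun a b hab => Set.disjoint_left.mpr fun z ha hb => hab ?_⟩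
  · obtain ⟨ζ, hζ, hmem⟩ := Set.mem_iUnion₂.mp h
    exact hζ.2 (η.2 ζ (specializes_iff_mem_closure.mpr hmem))
  · obtain ⟨ζ, hζ, hζz⟩ := exists_isGen_specializes z
    have h1 : ∀ c : {η : α | IsGen η}, z ∈ (K c)ᶜ → c.1 = ζ := fun c hc => by_contra fun hne =>
      hc (Set.mem_iUnion₂.mpr ⟨ζ, ⟨hζ, Ne.symm hne⟩, specializes_iff_mem_closure.mp hζz⟩)
    exact Subtype.ext ((h1 a ha).trans (h1 b hb).symm)

theorem not_three (hdim : topologicalKrullDim α ≤ 1) {a b c : α} (h1 : a ⤳ b) (h2 : b ⤳ c)
    (hab : a ≠ b) (hbc : b ≠ c) : False := by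
  let cl : α → IrreducibleCloseds α := fun x => ⟨closure {x}, isIrreducible_singleton.closure, isClosed_closure⟩
  have hlt : ∀ x y : α, x ⤳ y → x ≠ y → cl y < cl x := fun x y h hne =>
    lt_of_le_not_ge (show closure {y} ⊆ closure {x} from specializes_iff_closure_subset.mp h) fun hle =>
      hne (h.antisymm (specializes_iff_closure_subset.mpr hle)).eq
  rcases Order.krullDim_le_one_iff.mp hdim (cl b) with h | h
  · exact (hlt b c h2 hbc).not_ge (h (hlt b c h2 hbc).le)
  · exact (hlt a b h1 hab).not_ge (h (hlt a b h1 hab).le)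

theorem eq_of_specializes_of_not_isGen (hdim : topologicalKrullDim α ≤ 1) {y w : α} (hy : ¬ IsGen y) (h : y ⤳ w) :
    y = w := by
  by_contra hne
  simp only [IsGen, not_forall] at hy
  obtain ⟨z, hz, hzy⟩ := hy
  exact not_three hdim hz h hzy hne

theorem isGen_of_specializes (hdim : topologicalKrullDim α ≤ 1) {z y : α} (h : z ⤳ y) (hne : z ≠ y) : IsGen z :=
  by_contra fun hz => hne (eq_of_specializes_of_not_isGen hdim hz h)

theorem finite_of_closed [NoetherianSpace α] (hdim : topologicalKrullDim α ≤ 1) {C : Set α} (hC : IsClosed C)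
    (hG : ∀ y ∈ C, ¬ IsGen y) : C.Finite := by
  obtain ⟨S, hS, hScl, hSir, rfl⟩ := NoetherianSpace.exists_finite_set_isClosed_irreducible hC
  refine hS.sUnion fun t ht => Set.Subsingleton.finite fun a ha b hb => ?_
  obtain ⟨η, hη⟩ := QuasiSober.sober (hSir t ht) (hScl t ht)
  have hηt : η ∈ t := hη.mem
  have key : ∀ w ∈ t, η = w := fun w hw =>
    eq_of_specializes_of_not_isGen hdim (hG η ⟨t, ht, hηt⟩) (hη.specializes hw)
  exact (key a ha).symm.trans (key b hb)

end FinPicLib
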