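import Groth.Agent.FinPicLib.SemiLocal
import Groth.Agent.FinPicLib.Topo
import Groth.Agent.DiscExtLib.Chart
import Groth.Agent.DiscExtLib.Glue
import Groth.Agent.UFDExtLib.Densify
import Groth.Agent.AmpleDevLib.Pull
import Mathlib.AlgebraicGeometry.Morphisms.QuasiFinite
import Mathlib.AlgebraicGeometry.Morphisms.Finite

/-!
# Invertible modules along finite morphisms to schemes of dimension at most one
-/

set_option autoImplicit false
universe u

open CategoryTheory CategoryTheory.Limits AlgebraicGeometry TopologicalSpace Opposite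
open AmpleLib (res GenAt GenOn)
open KFlatLib (pb puSec)

noncomputable section

namespace FinPicLib

variable {X Y : Scheme.{u}} (f : X ⟶ Y)

theorem app_res {A B : Y.Opens} (h : B ≤ A) (r : Γ(Y, A)) :
    f.app B (Y.presheaf.map (homOfLE h).op r) = X.presheaf.map (homOfLE (f.preimage_mono h)).op (f.app A r) := by
  rw [← CommRingCat.comp_apply, f.naturality]
  rfl

theorem gen_unit {M : X.Modules} {W : X.Opens} {σ τ : Γ(M, W)} (hσ : GenOn M σ) (hτ : GenOn M τ)
    {r : Γ(X, W)} (h : r • σ = τ) : IsUnit r := by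
  obtain ⟨r', hr'⟩ := (hτ W le_rfl).2 σ
  dsimp only at hr'
  rw [AmpleLib.res_refl, ← h, smul_smul] at hr'
  refine IsUnit.of_mul_eq_one r' ?_
  have := (hσ W le_rfl).1 (a₁ := r' * r) (a₂ := 1) (by
    show (r' * r) • res M le_rfl σ = (1 : Γ(X, W)) • res M le_rfl σ
    rw [AmpleLib.res_refl, one_smul, hr'])
  rwa [mul_comm]

theorem genOn_zero {M : X.Modules} {W : X.Opens} (h : ∀ z, z ∉ W) : GenOn M (0 : Γ(M, W)) :=
  TwistLib.genOn_of_genAt fun z hz => absurd hz (h z)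

/-- Trivialisation over a neighbourhood of a point of the base. -/
theorem exists_trivial_near [IsFinite f] {L : X.Modules} (hL : PicF.IsInvertible L) (y : Y) :
    ∃ (P : Y.Opens) (t : Γ(L, f ⁻¹ᵁ P)), y ∈ P ∧ GenOn L t := by
  obtain ⟨W, hW, hyW, -⟩ := exists_isAffineOpen_mem_and_subset (x := y) (U := (⊤ : Y.Opens)) trivial
  let T : X.affineOpens := ⟨f ⁻¹ᵁ W, hW.preimage f⟩
  obtain ⟨O, e, hO, hOT, he⟩ := exists_genOn_nhd hL T (F := f ⁻¹' {y}) (f.finite_preimage_singleton y)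
    (fun z hz => show f z ∈ W from (Set.mem_singleton_iff.mp hz) ▸ hyW) fun a ha b hb hab => by
      haveI := (f.isDiscrete_preimage_singleton y).to_subtype
      exact congrArg Subtype.val ((Topology.IsInducing.subtypeVal.specializes_iff.mp hab :
        (⟨a, ha⟩ : ↥(f ⁻¹' {y})) ⤳ ⟨b, hb⟩)).eq
  have hcl : IsClosed (f '' (O : Set X)ᶜ) := f.isClosedMap _ O.2.isClosed_compl
  let P : Y.Opens := W ⊓ ⟨(f '' (O : Set X)ᶜ)ᶜ, hcl.isOpen_compl⟩
  have hP : f ⁻¹ᵁ P ≤ O := fun z hz => not_not.mp fun h => hz.2 ⟨z, h, rfl⟩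
  exact ⟨P, res L hP e, ⟨hyW, fun ⟨z, hz, hzy⟩ => hz (hO hzy)⟩, he.res hP⟩

/-- Lifting a unit near a point over which `f` is a closed immersion. -/
theorem exists_lift_unit [IsFinite f] {V : Y.Opens} (hfV : IsClosedImmersion (f ∣_ V)) {η : Y} (hη : η ∈ V)
    {D : Y.Opens} (hD : η ∈ D) (u : Γ(X, f ⁻¹ᵁ D)) (hu : IsUnit u) :
    ∃ (Q : Y.Opens) (w : Γ(Y, Q)), η ∈ Q ∧ IsUnit w ∧ ∃ hQ : Q ≤ D,
      f.app Q w = X.presheaf.map (homOfLE (f.preimage_mono hQ)).op u := by
  by_cases hfib : ∃ ξ, f ξ = η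
  · obtain ⟨ξ, rfl⟩ := hfib
    have hinj : ∀ ξ', f ξ' = f ξ → ξ' = ξ := fun ξ' h => by
      have hξ' : ξ' ∈ f ⁻¹ᵁ V := show f ξ' ∈ V from h ▸ hη
      have := (f ∣_ V).isClosedEmbedding.injective (a₁ := ⟨ξ', hξ'⟩) (a₂ := ⟨ξ, hη⟩) (Subtype.ext (by
        rw [morphismRestrict_base_coe, morphismRestrict_base_coe]; exact h))
      exact congrArg Subtype.val this
    have hsurj : Function.Surjective (f.stalkMap ξ) := fun b => by
      let i := morphismRestrictStalkMap f V ⟨ξ, hη⟩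
      obtain ⟨b', hb'⟩ := (ConcreteCategory.bijective_of_isIso i.hom.right).2 b
      obtain ⟨x, rfl⟩ := (f ∣_ V).stalkMap_surjective ⟨ξ, hη⟩ b'
      exact ⟨i.hom.left x, (ConcreteCategory.congr_hom i.hom.w x).trans hb'⟩
    obtain ⟨a, ha⟩ := hsurj (X.presheaf.germ (f ⁻¹ᵁ D) ξ hD u)
    obtain ⟨Q₀, hξQ₀, w₀, rfl⟩ := Y.presheaf.exists_germ_eq (x := f ξ) a
    have hua : IsUnit (Y.presheaf.germ Q₀ (f ξ) hξQ₀ w₀) := by
      refine IsUnit.of_map (f.stalkMap ξ).hom _ ?_
      rw [show (f.stalkMap ξ).hom _ = _ from ha]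
      exact hu.map _
    rw [Scheme.Hom.germ_stalkMap_apply] at ha
    obtain ⟨O, hξO, i₁, i₂, hO⟩ := TopCat.Presheaf.germ_eq X.presheaf ξ _ hD _ _ ha
    have hcl : IsClosed (f '' (O : Set X)ᶜ) := f.isClosedMap _ O.2.isClosed_compl
    let Q : Y.Opens := Y.basicOpen w₀ ⊓ D ⊓ ⟨(f '' (O : Set X)ᶜ)ᶜ, hcl.isOpen_compl⟩
    have hQ₀ : Q ≤ Q₀ := inf_le_left.trans (inf_le_left.trans (Y.basicOpen_le w₀))
    have hQD : Q ≤ D := inf_le_left.trans inf_le_right
    refine ⟨Q, Y.presheaf.map (homOfLE hQ₀).op w₀, ⟨⟨(Y.mem_basicOpen w₀ _ hξQ₀).mpr hua, hD⟩,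
      fun ⟨z, hz, hzy⟩ => hz ((hinj z hzy) ▸ hξO)⟩, ?_, hQD, ?_⟩
    · have h1 : IsUnit (Y.presheaf.map (homOfLE (Y.basicOpen_le w₀)).op w₀) := Y.toRingedSpace.isUnit_res_basicOpen w₀
      have h2 := h1.map (Y.presheaf.map (homOfLE (inf_le_left.trans inf_le_left : Q ≤ Y.basicOpen w₀)).op).hom
      exact (congrArg IsUnit (show _ = Y.presheaf.map (homOfLE hQ₀).op w₀ from
        AmpleLib.res_res (Coh.structureModule Y) (Y.basicOpen_le w₀) (inf_le_left.trans inf_le_left) w₀)).mp h2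
    · have hle : f ⁻¹ᵁ Q ≤ O := fun z hz => not_not.mp fun h => hz.2 ⟨z, h, rfl⟩
      have h := congrArg (X.presheaf.map (homOfLE hle).op) hO
      rw [app_res]
      exact ((AmpleLib.res_res (Coh.structureModule X) i₁.le hle (f.app Q₀ w₀)).symm.trans h).trans
        (AmpleLib.res_res (Coh.structureModule X) i₂.le hle u)
  · let Q : Y.Opens := D ⊓ ⟨(Set.range f)ᶜ, f.isClosedMap.isClosed_range.isOpen_compl⟩
    refine ⟨Q, 1, ⟨hD, hfib⟩, isUnit_one, inf_le_left, ?_⟩
    have : Subsingleton Γ(X, f ⁻¹ᵁ Q) := by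
      have h0 : f ⁻¹ᵁ Q = ⊥ := le_bot_iff.mp fun z hz => hz.2 ⟨z, rfl⟩
      rw [h0]
      infer_instance
    exact Subsingleton.elim _ _

/-- A pullback is determined by generators related by units. -/
theorem exists_iso_of_units {N : Y.Modules} {L : X.Modules} {U : Y.Opens} {κ : Type u} (D : κ → Y.Opens)
    (e : ∀ k, Γ(N, D k)) (l : ∀ k, Γ(L, f ⁻¹ᵁ D k)) (g : Γ(N, U)) (t : Γ(L, f ⁻¹ᵁ U))
    (hcov : ∀ y, ∃ k, y ∈ D k) (he : ∀ k, GenOn N (e k)) (hl : ∀ k, GenOn L (l k))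
    (hdisj : ∀ k k', k ≠ k' → D k ⊓ D k' ≤ U)
    (a : ∀ k, Γ(Y, D k ⊓ U)) (ha : ∀ k, IsUnit (a k))
    (hae : ∀ k, a k • res N inf_le_right g = res N inf_le_left (e k))
    (hal : ∀ k, f.app (D k ⊓ U) (a k) • res L (f.preimage_mono inf_le_right) t =
      res L (f.preimage_mono inf_le_left) (l k)) :
    Nonempty (pb f N ≅ L) := by
  refine ⟨(AmpleThLib.exists_iso_gens (fun k => f ⁻¹ᵁ D k) (fun k => puSec f (e k)) l
    (fun x => hcov (f x)) (fun k => AmpleDevLib.puSec_genOn f (he k)) hl ?_).choose⟩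
  intro k k' V hk hk'
  rcases eq_or_ne k k' with rfl | hne
  · exact ⟨1, one_smul _ _, one_smul _ _⟩
  let W : Y.Opens := D k ⊓ D k'
  have h₁ : W ≤ D k ⊓ U := le_inf inf_le_left (hdisj k k' hne)
  have h₂ : W ≤ D k' ⊓ U := le_inf inf_le_right (hdisj k k' hne)
  let b := Y.presheaf.map (homOfLE h₁).op (a k)
  let b' := Y.presheaf.map (homOfLE h₂).op (a k')
  obtain ⟨b₀, hb₀⟩ := isUnit_iff_exists_inv'.mp (show IsUnit b from (ha k).map _)
  let c : Γ(Y, W) := b' * b₀
  have hcb : c * b = b' := by rw [mul_assoc, hb₀, mul_one]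
  have hg : b • res N (hdisj k k' hne) g = res N inf_le_left (e k) ∧
      b' • res N (hdisj k k' hne) g = res N inf_le_right (e k') := by
    constructor
    · have h := congrArg (res N h₁) (hae k)
      rwa [AmpleLib.res_smul, AmpleLib.res_res, AmpleLib.res_res] at h
    · have h := congrArg (res N h₂) (hae k')
      rwa [AmpleLib.res_smul, AmpleLib.res_res, AmpleLib.res_res] at h
  have ce : c • res N inf_le_left (e k) = res N inf_le_right (e k') := by
    rw [← hg.1, ← hg.2, smul_smul, hcb]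
  have hWV : V ≤ f ⁻¹ᵁ W := fun z hz => ⟨hk hz, hk' hz⟩
  refine ⟨X.presheaf.map (homOfLE hWV).op (f.app W c), ?_, ?_⟩
  · have h1 := congrArg (fun z => res (pb f N) hWV (puSec f z)) ce
    rw [TwistLib.puSec_smul, TwistLib.puSec_res f, TwistLib.puSec_res f, AmpleLib.res_smul, AmpleLib.res_res,
      AmpleLib.res_res] at h1
    exact h1
  · have h := congrArg (res L (f.preimage_mono h₁)) (hal k)
    have h' := congrArg (res L (f.preimage_mono h₂)) (hal k')
    rw [AmpleLib.res_smul, ← app_res f h₁, AmpleLib.res_res, AmpleLib.res_res] at h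
    rw [AmpleLib.res_smul, ← app_res f h₂, AmpleLib.res_res, AmpleLib.res_res] at h'
    have h2 : f.app W c • res L (f.preimage_mono inf_le_left) (l k) = res L (f.preimage_mono inf_le_right) (l k') := by
      rw [← h, ← h', smul_smul, ← map_mul]
      exact congrArg (fun z => f.app W z • _) hcb
    have h3 := congrArg (res L hWV) h2
    rw [AmpleLib.res_smul, AmpleLib.res_res, AmpleLib.res_res] at h3
    exact h3

theorem exists_pullback [IsFinite f] [NoetherianSpace Y] (hdim : topologicalKrullDim Y ≤ 1) (V : Y.Opens)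
    (hV : Dense (V : Set Y)) (hfV : IsClosedImmersion (f ∣_ V)) (L : X.Modules) (hL : PicF.IsInvertible L) :
    ∃ N : Y.Modules, PicF.IsInvertible N ∧ Nonempty ((Scheme.Modules.pullback f).obj N ≅ L) := by
  classical
  choose P₀ t₀ hyP₀ ht₀ using exists_trivial_near f hL
  let G := {η : Y | IsGen η}
  haveI : Finite G := (finite_isGen (α := Y)).to_subtype
  obtain ⟨O, hO, hOd⟩ := exists_disjoint_nhds (α := Y)
  let P : G → Y.Opens := fun η => P₀ η.1 ⊓ V ⊓ O η
  have hP : ∀ η : G, η.1 ∈ P η := fun η => ⟨⟨hyP₀ _, mem_of_dense η.2 V.2 hV⟩, hO η⟩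
  have hPd : ∀ a b : G, a ≠ b → ∀ z, z ∈ P a → z ∉ P b := fun a b h z ha hb =>
    Set.disjoint_left.mp (hOd a b h) ha.2 hb.2
  let U : Y.Opens := ⨆ η, P η
  -- the trivialisation over `U`
  obtain ⟨t, ht, -⟩ := TopCat.Sheaf.existsUnique_gluing' (Coh.toAb L) (fun η => f ⁻¹ᵁ P η) (f ⁻¹ᵁ U)
    (fun η => homOfLE (f.preimage_mono (le_iSup P η))) (fun z hz => by
      obtain ⟨η, hη⟩ := Opens.mem_iSup.mp (show f z ∈ ⨆ η, P η from hz)
      exact Opens.mem_iSup.mpr ⟨η, hη⟩)
    (fun η => res L (f.preimage_mono (inf_le_left.trans inf_le_left)) (t₀ η.1)) (fun a b => by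
      rcases eq_or_ne a b with rfl | hne
      · rfl
      exact TwistLib.mod_ext L fun z hz => absurd hz.2 (hPd a b hne _ hz.1))
  have htg : GenOn L t := TwistLib.genOn_of_genAt fun z hz => by
    obtain ⟨η, hη⟩ := Opens.mem_iSup.mp (show f z ∈ ⨆ η, P η from hz)
    have h := congrArg (fun s => L.presheaf.germ (f ⁻¹ᵁ P η) z hη s) (ht η)
    simp only [AmpleLib.germ_res] at h
    have e : L.presheaf.germ (f ⁻¹ᵁ U) z hz t = L.presheaf.germ _ z hη.1.1 (t₀ η.1) :=
      (TopCat.Presheaf.germ_res_apply L.presheaf (homOfLE (f.preimage_mono (le_iSup P η))) z hη t).symm.trans h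
    show Function.Bijective _
    rw [e]
    exact (ht₀ η.1).genAt (x := z) hη.1.1
  let C : Set Y := (U : Set Y)ᶜ
  have hCG : ∀ y ∈ C, ¬ IsGen y := fun y hy hg => hy (Opens.mem_iSup.mpr ⟨⟨y, hg⟩, hP ⟨y, hg⟩⟩)
  have hCfin : C.Finite := finite_of_closed hdim U.2.isClosed_compl hCG
  have hpt : ∀ y : C, ∀ w, y.1 ⤳ w → y.1 = w := fun y w h => eq_of_specializes_of_not_isGen hdim (hCG y y.2) h
  -- near a point of the complement
  have step : ∀ y : C, ∃ (D : Y.Opens) (hD : D ≤ P₀ y.1) (w : Γ(Y, D ⊓ U)), y.1 ∈ D ∧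
      (∀ z ∈ D, z ∉ U → z = y.1) ∧ IsUnit w ∧
      f.app (D ⊓ U) w • res L (f.preimage_mono inf_le_right) t =
        res L (f.preimage_mono (inf_le_left.trans hD)) (t₀ y.1) := by
    intro y
    have hdd : IsClosed (C \ {y.1}) := by
      have : C \ {y.1} = ⋃ z ∈ C \ {y.1}, closure {z} := by
        refine Set.Subset.antisymm (fun z hz => Set.mem_iUnion₂.mpr ⟨z, hz, subset_closure rfl⟩) fun z hz => ?_
        obtain ⟨w, hw, hwz⟩ := Set.mem_iUnion₂.mp hz
        exact (hpt ⟨w, hw.1⟩ z (specializes_iff_mem_closure.mpr hwz)) ▸ hw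
      rw [this]
      exact (hCfin.subset Set.diff_subset).isClosed_biUnion fun _ _ => isClosed_closure
    let D₁ : Y.Opens := P₀ y.1 ⊓ ⟨(C \ {y.1})ᶜ, hdd.isOpen_compl⟩
    obtain ⟨W, hW, hyW, hWD⟩ := exists_isAffineOpen_mem_and_subset (x := y.1) (U := D₁)
      ⟨hyP₀ _, fun h => h.2 rfl⟩
    let D₀ : Y.Opens := W ⊓ U
    have hD₀P : D₀ ≤ P₀ y.1 := inf_le_left.trans fun z hz => (hWD hz).1
    obtain ⟨u, hu⟩ := (htg (f ⁻¹ᵁ D₀) (f.preimage_mono inf_le_right)).2 (res L (f.preimage_mono hD₀P) (t₀ y.1))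
    dsimp only at hu
    have huu : IsUnit u := gen_unit (htg.res _) ((ht₀ y.1).res _) hu
    have hgen : ∀ η : {η : G // η.1 ⤳ y.1}, η.1.1 ∈ D₀ := fun η =>
      ⟨η.2.mem_open W.2 hyW, Opens.mem_iSup.mpr ⟨η.1, hP η.1⟩⟩
    choose Q w hηQ hw hQD hQw using fun η : {η : G // η.1 ⤳ y.1} =>
      exists_lift_unit f hfV (mem_of_dense η.1.2 V.2 hV) (D := D₀ ⊓ P η.1) ⟨hgen η, hP η.1⟩
        (X.presheaf.map (homOfLE (f.preimage_mono inf_le_left)).op u) (huu.map _)
    let R : Y.Opens := ⨆ η, Q η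
    obtain ⟨c, hyc, hc⟩ := DiscExtLib.exists_basicOpen_disjoint ⟨W, hW⟩ hyW D₀
      (NoetherianSpace.isCompact (D₀ : Set Y)) inf_le_left R.2.isClosed_compl fun z hz hzD =>
        Set.notMem_compl_iff.mpr (Opens.mem_iSup.mpr ⟨⟨⟨z, isGen_of_specializes hdim hz fun e => y.2 (e ▸ hzD.2)⟩, hz⟩, hηQ _⟩)
    let D : Y.Opens := Y.basicOpen c
    have hDW : D ≤ W := Y.basicOpen_le c
    have hDR : D ⊓ U ≤ R := fun z hz => not_not.mp (hc z hz.1 ⟨hDW hz.1, hz.2⟩)
    obtain ⟨w', hw', -⟩ := TopCat.Sheaf.existsUnique_gluing' (Coh.toAb (Coh.structureModule Y))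
      (fun η => D ⊓ U ⊓ Q η) (D ⊓ U) (fun η => homOfLE inf_le_left)
      (fun z hz => by
        obtain ⟨η, hη⟩ := Opens.mem_iSup.mp (hDR hz)
        exact Opens.mem_iSup.mpr ⟨η, hz, hη⟩)
      (fun η => res (Coh.structureModule Y) inf_le_right (w η)) (fun a b => by
        rcases eq_or_ne a b with rfl | hne
        · rfl
        exact TwistLib.mod_ext (Coh.structureModule Y) fun z hz => absurd ((hQD b) hz.2.2).2
          (hPd a.1 b.1 (fun e => hne (Subtype.ext e)) z ((hQD a) hz.1.2).2))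
    refine ⟨D, fun z hz => (hWD (hDW hz)).1, w', hyc, fun z hz hzU => ?_, ?_, ?_⟩
    · exact by_contra fun hne => (hWD (hDW hz)).2 ⟨hzU, hne⟩
    · refine Y.toRingedSpace.isUnit_of_isUnit_germ (D ⊓ U) w' fun z hz => ?_
      obtain ⟨η, hη⟩ := Opens.mem_iSup.mp (hDR hz)
      have h0 : Y.presheaf.map (homOfLE (inf_le_left : D ⊓ U ⊓ Q η ≤ D ⊓ U)).op w' =
          Y.presheaf.map (homOfLE (inf_le_right : D ⊓ U ⊓ Q η ≤ Q η)).op (w η) := hw' η
      have h := congrArg (fun s => Y.presheaf.germ (D ⊓ U ⊓ Q η) z ⟨hz, hη⟩ s) h0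
      simp only [TopCat.Presheaf.germ_res_apply] at h
      rw [show Y.toRingedSpace.presheaf.germ (D ⊓ U) z hz w' = _ from h]
      exact (hw η).map _
    · refine TwistLib.mod_ext L fun z hz => ?_
      obtain ⟨η, hη⟩ := Opens.mem_iSup.mp (hDR (show f z ∈ D ⊓ U from hz))
      let E : Y.Opens := D ⊓ U ⊓ Q η
      have hzE : z ∈ f ⁻¹ᵁ E := ⟨hz, hη⟩
      have e1 : Y.presheaf.map (homOfLE (inf_le_left : E ≤ D ⊓ U)).op w' =
          Y.presheaf.map (homOfLE (inf_le_right : E ≤ Q η)).op (w η) := hw' η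
      have e2 := congrArg (f.app E) e1
      rw [app_res f, app_res f, hQw η] at e2
      have e3 := congrArg (fun r => X.presheaf.germ (f ⁻¹ᵁ E) z hzE r) e2
      simp only [TopCat.Presheaf.germ_res_apply] at e3
      have e4 := congrArg (fun s => L.presheaf.germ (f ⁻¹ᵁ D₀) z ⟨hDW hz.1, hz.2⟩ s) hu
      simp only [AmpleLib.germ_res, AmpleLib.germ_smul] at e4 ⊢
      rw [e3]
      exact e4
  choose D hDP w hyD honly hw hwt using step
  let A := (Scheme.Modules.pushforward U.ι).obj (Coh.structureModule (U : Scheme.{u}))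
  let σ : Γ(A, ⊤) := (1 : Γ((U : Scheme.{u}), U.ι ⁻¹ᵁ ⊤))
  have hσ : GenOn A (res A (le_top : U ≤ ⊤) σ) := by
    intro W hW
    have hb : Function.Bijective (U.ι.app W) := by
      haveI := U.ι.isIso_app W (hW.trans_eq (Scheme.Opens.opensRange_ι U).symm)
      exact ConcreteCategory.bijective_of_isIso (U.ι.app W)
    have e : (fun r : Γ(Y, W) => r • res A hW (res A (le_top : U ≤ ⊤) σ)) = fun r => U.ι.app W r := funext fun r => by
      rw [AmpleLib.res_res]
      refine (congrArg (fun t : Γ((U : Scheme.{u}), U.ι ⁻¹ᵁ W) => (U.ι.app W).hom r * t)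
        (map_one ((U : Scheme.{u}).presheaf.map (homOfLE (U.ι.preimage_mono (le_top : W ≤ ⊤))).op).hom)).trans (mul_one _)
    rw [e]
    exact hb
  choose E hE using fun y => (UFDExtLib.res_push_bijective U (Coh.structureModule (U : Scheme.{u}))
    (inf_le_left : D y ⊓ U ≤ D y) le_rfl).2 (w y • res A inf_le_right (res A (le_top : U ≤ ⊤) σ))
  have hgen : ∀ y (W : Y.Opens) (_ : W ≤ U) (h : W ≤ D y),
      Function.Bijective fun r : Γ(Y, W) => r • res A h (E y) := by
    intro y W hW h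
    have e : (fun r : Γ(Y, W) => r • res A h (E y)) =
        (fun r => r • res A hW (res A (le_top : U ≤ ⊤) σ)) ∘ fun r => r * Y.presheaf.map (homOfLE (le_inf h hW)).op (w y) := funext fun r => by
      simp only [Function.comp_apply]
      rw [← AmpleLib.res_res A (inf_le_left : D y ⊓ U ≤ D y) (le_inf h hW), hE y, AmpleLib.res_smul,
        AmpleLib.res_res A inf_le_right, smul_smul]
    rw [e]
    exact (hσ W hW).comp ((hw y).map (Y.presheaf.map (homOfLE (le_inf h hW)).op).hom).unit.mulRight.bijective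
  obtain ⟨N, p, ε, hN, hp, hε, -⟩ := DiscExtLib.exists_glue_module hgen
    (fun y => (em (y ∈ U)).imp id fun hy => ⟨⟨y, hy⟩, hyD _⟩)
    (fun i j hij z hz => not_not.mp fun hzU => hij (Subtype.ext ((honly i z hz.1 hzU).symm.trans (honly j z hz.2 hzU))))
    (fun y hy => ⟨U, hy, le_rfl, _, hσ⟩)
  obtain ⟨g, hg⟩ := (hp U le_rfl).2 (res A le_top σ)
  have hgg : GenOn N g := fun W hW => by
    refine (Function.Bijective.of_comp_iff' (hp W hW) _).mp ?_
    have e : ((p.app W) ∘ fun r : Γ(Y, W) => r • res N hW g) = fun r => r • res A hW (res A (le_top : U ≤ ⊤) σ) :=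
      funext fun r => (QCohLib.app_smul p W r _).trans
        (congrArg (r • ·) ((QCohLib.app_map p (homOfLE hW) g).trans (congrArg _ hg)))
    rw [e]
    exact hσ W hW
  refine ⟨N, hN, exists_iso_of_units f (fun k : Option C => k.elim U D)
    (fun k => match k with | none => g | some y => ε y)
    (fun k => match k with | none => t | some y => res L (f.preimage_mono (hDP y)) (t₀ y.1))
    g t (fun y => by
      by_cases hy : y ∈ U
      · exact ⟨none, hy⟩
      · exact ⟨some ⟨y, hy⟩, hyD _⟩) ?_ ?_ ?_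
    (fun k => match k with | none => 1 | some y => w y) ?_ ?_ ?_⟩
  · rintro (_ | y)
    · exact hgg
    · exact (hε y).1
  · rintro (_ | y)
    · exact htg
    · exact (ht₀ y.1).res _
  · rintro (_ | i) (_ | j) hne
    · exact absurd rfl hne
    · exact inf_le_left
    · exact inf_le_right
    · exact fun z hz => not_not.mp fun hzU => hne (congrArg some
        (Subtype.ext ((honly i z hz.1 hzU).symm.trans (honly j z hz.2 hzU))))
  · rintro (_ | y)
    · exact isUnit_one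
    · exact hw y
  · rintro (_ | y)
    · exact one_smul _ _
    · show w y • res N (inf_le_right : D y ⊓ U ≤ U) g = res N (inf_le_left : D y ⊓ U ≤ D y) (ε y)
      refine (hp (D y ⊓ U) inf_le_right).1 ?_
      show p.app (D y ⊓ U) (w y • res N inf_le_right g) = p.app (D y ⊓ U) (res N inf_le_left (ε y))
      rw [QCohLib.app_smul]
      refine (congrArg (w y • ·) ((QCohLib.app_map p (homOfLE inf_le_right) g).trans (congrArg _ hg))).trans ?_
      refine ((hE y).symm.trans ?_)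
      exact ((QCohLib.app_map p (homOfLE inf_le_left) (ε y)).trans (congrArg _ (hε y).2)).symm
  · rintro (_ | y)
    · exact (congrArg (· • _) (map_one _)).trans (one_smul _ _)
    · refine (hwt y).trans ?_
      exact (AmpleLib.res_res L _ _ _).symm

end FinPicLib
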