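import Groth.Agent.TwistLib.SpecSections
import Groth.Agent.UFDExtLib.Point
import Groth.Agent.QCohLib.AffineFinite

/-!
# An invertible module has a generator near finitely many points of an affine
-/

set_option autoImplicit false
universe u

open CategoryTheory CategoryTheory.Limits AlgebraicGeometry TopologicalSpace Opposite
open AmpleLib (res GenAt GenOn)

noncomputable section

namespace FinPicLib

variable {X : Scheme.{u}}

theorem germ_mem_maximalIdeal (T : X.affineOpens) {ξ : X} (hξ : ξ ∈ T.1) {a : Γ(X, T.1)}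
    (ha : a ∈ SDivLib.prm T hξ) : X.presheaf.germ T.1 ξ hξ a ∈ IsLocalRing.maximalIdeal (X.presheaf.stalk ξ) :=
  (IsLocalRing.mem_maximalIdeal _).mpr ((SDivLib.mem_prm_iff T hξ a).mp ha)

theorem exists_genAt_finite {M : X.Modules} (hM : PicF.IsInvertible M) (T : X.affineOpens) {F : Set X}
    (hF : F.Finite) (hFT : F ⊆ T.1) (hinc : ∀ a ∈ F, ∀ b ∈ F, a ⤳ b → a = b) :
    ∃ σ : Γ(M, T.1), ∀ (ξ : X) (hξ : ξ ∈ F), GenAt M σ (hFT hξ) := by
  classical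
  haveI := TwistLib.isQCoh_of_isInvertible hM
  haveI := hF.to_subtype
  haveI := Fintype.ofFinite F
  have hex : ∀ ξ : F, ∃ m : Γ(M, T.1), GenAt M m (hFT ξ.2) := by
    rintro ⟨ξ, hξ⟩
    obtain ⟨O, e, hξO, he⟩ := TwistLib.exists_genOn hM ξ
    obtain ⟨g, hgO, hξg⟩ := QCohLib.exists_basicOpen_nhd T.2 hξO (hFT hξ)
    obtain ⟨n, m, hm⟩ := (QCohLib.localizingAt_of_isQCoh T.2 M g).exists_extend (res M hgO e)
    refine ⟨m, (AmpleLib.genAt_res (X.basicOpen_le g) m hξg).mp ?_⟩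
    rw [show res M (X.basicOpen_le g) m = _ from hm, AmpleLib.genAt_smul_iff _ _ _ ((he.res hgO).genAt hξg)]
    rw [Scheme.mem_basicOpen X _ ξ hξg, map_pow]
    refine IsUnit.pow n ?_
    rw [TopCat.Presheaf.germ_res_apply]
    exact (X.mem_basicOpen g ξ (hFT hξ)).mp hξg
  choose m hm using hex
  have hsep : ∀ i j : F, ∃ a : Γ(X, T.1), a ∉ SDivLib.prm T (hFT i.2) ∧ (i ≠ j → a ∈ SDivLib.prm T (hFT j.2)) := by
    intro i j
    haveI := SDivLib.prm_isPrime T (hFT i.2)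
    by_cases h : i = j
    · exact ⟨1, fun h1 => (SDivLib.prm_isPrime T (hFT i.2)).ne_top ((Ideal.eq_top_iff_one _).mpr h1), fun hne => absurd h hne⟩
    · obtain ⟨a, haj, hai⟩ := SetLike.not_le_iff_exists.mp fun hle =>
        h (Subtype.ext (hinc j j.2 i i.2 (UFDExtLib.specializes_of_le T (hFT j.2) (hFT i.2) hle)).symm)
      exact ⟨a, hai, fun _ => haj⟩
  choose a hai haj using hsep
  refine ⟨∑ i : F, (∏ j : F, a i j) • m i, fun ξ hξ => ?_⟩
  let ξ' : F := ⟨ξ, hξ⟩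
  let R := X.presheaf.stalk ξ
  let g := M.presheaf.germ T.1 ξ (hFT hξ) (m ξ')
  have hg := hm ξ'
  choose c hc using fun i : F => hg.2 (M.presheaf.germ T.1 ξ (hFT hξ) (m i))
  let b : F → R := fun i => X.presheaf.germ T.1 ξ (hFT hξ) (∏ j : F, a i j) * c i
  have hsum : M.presheaf.germ T.1 ξ (hFT hξ) (∑ i : F, (∏ j : F, a i j) • m i) = (∑ i : F, b i) • g := by
    rw [map_sum, Finset.sum_smul]
    refine Finset.sum_congr rfl fun i _ => ?_
    rw [AmpleLib.germ_smul, ← hc i, smul_smul]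
  have hc1 : c ξ' = 1 := hg.1 ((hc ξ').trans (one_smul R g).symm)
  have hu : IsUnit (∑ i : F, b i) := by
    rw [← Finset.add_sum_erase _ _ (Finset.mem_univ ξ')]
    have hb : IsUnit (b ξ') := by
      simp only [b, hc1, mul_one]
      by_contra hu
      obtain ⟨j, -, hj⟩ := (SDivLib.prm_isPrime T (hFT hξ)).prod_mem_iff.mp ((SDivLib.mem_prm_iff T (hFT hξ) _).mpr hu)
      exact hai ξ' j hj
    by_contra hu
    have h1 : b ξ' + ∑ i ∈ Finset.univ.erase ξ', b i ∈ IsLocalRing.maximalIdeal R := (IsLocalRing.mem_maximalIdeal _).mpr hu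
    have h2 : ∑ i ∈ Finset.univ.erase ξ', b i ∈ IsLocalRing.maximalIdeal R := Ideal.sum_mem _ fun i hi =>
      Ideal.mul_mem_right _ _ (germ_mem_maximalIdeal T (hFT hξ)
        (Ideal.mem_of_dvd _ (Finset.dvd_prod_of_mem _ (Finset.mem_univ ξ')) (haj i ξ' (Finset.mem_erase.mp hi).1)))
    exact (IsLocalRing.mem_maximalIdeal _).mp ((Ideal.add_mem_iff_left _ h2).mp h1) hb
  show Function.Bijective fun c : R => c • M.presheaf.germ T.1 ξ (hFT hξ) (∑ i : F, (∏ j : F, a i j) • m i)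
  rw [hsum]
  simp only [smul_smul]
  exact hg.comp hu.unit.mulRight.bijective

theorem exists_genOn_nhd {M : X.Modules} (hM : PicF.IsInvertible M) (T : X.affineOpens) {F : Set X}
    (hF : F.Finite) (hFT : F ⊆ T.1) (hinc : ∀ a ∈ F, ∀ b ∈ F, a ⤳ b → a = b) :
    ∃ (O : X.Opens) (e : Γ(M, O)), F ⊆ O ∧ O ≤ T.1 ∧ GenOn M e := by
  obtain ⟨σ, hσ⟩ := exists_genAt_finite hM T hF hFT hinc
  have hopen : ∀ ξ ∈ F, ∃ O : X.Opens, ξ ∈ O ∧ O ≤ T.1 ∧ ∀ z (hz : z ∈ O) (hzT : z ∈ T.1), GenAt M σ hzT := by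
    intro ξ hξ
    obtain ⟨U, e, hξU, he⟩ := TwistLib.exists_genOn hM ξ
    obtain ⟨r, hr⟩ := (he (U ⊓ T.1) inf_le_left).2 (res M inf_le_right σ)
    dsimp only at hr
    have key : ∀ (z : X) (hz : z ∈ U ⊓ T.1), GenAt M σ hz.2 ↔ z ∈ X.basicOpen r := fun z hz => by
      rw [← AmpleLib.genAt_res (inf_le_right : U ⊓ T.1 ≤ T.1) σ hz, ← hr]
      exact AmpleLib.genAt_smul_iff r _ hz ((he.res inf_le_left).genAt hz)
    exact ⟨X.basicOpen r, (key ξ ⟨hξU, hFT hξ⟩).mp (hσ ξ hξ), (X.basicOpen_le r).trans inf_le_right,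
      fun z hz hzT => (key z (X.basicOpen_le r hz)).mpr hz⟩
  choose O hO hOT hOg using hopen
  refine ⟨⨆ ξ : F, O ξ ξ.2, res M (iSup_le fun ξ => hOT ξ ξ.2) σ, fun ξ hξ => Opens.mem_iSup.mpr ⟨⟨ξ, hξ⟩, hO ξ hξ⟩,
    iSup_le fun ξ => hOT ξ ξ.2, TwistLib.genOn_of_genAt fun z hz => ?_⟩
  obtain ⟨ξ, hzξ⟩ := Opens.mem_iSup.mp hz
  exact (AmpleLib.genAt_res _ σ hz).mpr (hOg _ ξ.2 z hzξ _)

end FinPicLib
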